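import Groth.Agent.ResProp.EF.F5.Iface
import Mathlib.Algebra.Homology.HomotopyCategory.MappingCocone
import Mathlib.Algebra.Homology.HomotopyCategory.Shift
import Mathlib.Algebra.Homology.Embedding.CochainComplex
import Mathlib.Algebra.Homology.Embedding.TruncLEHomology
import Mathlib.Algebra.Homology.HomologySequence
import Mathlib.Algebra.Homology.ShortComplex.PreservesHomology

/-!
# The REP lemma (second seat): classes of a cohomology theory represented on push-forwards by `Q` are hit by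
bounded complexes `T` with `us T` quasi-isomorphic to `Q`

Proof: iterated fibre products `Z ×_{ul us Z} ul Q` and one truncation.
-/

set_option autoImplicit false
set_option backward.isDefEq.respectTransparency false
set_option backward.isDefEq.respectTransparency.types false

universe t w v u

open CategoryTheory CategoryTheory.Limits HomologicalComplex CochainComplex

namespace Groth.Agent.ResProp.EF.K475

open Groth.Agent.ResProp.EF.K294 Groth.Agent.ResProp.EF.F5

section general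

variable {D : Type*} {E : Type*} [Category* D] [Category* E] [Abelian D] [Abelian E]

lemma bdd_iff (K : CochainComplex D ℤ) : Bdd K ↔ ∃ a b : ℤ, ∀ i : ℤ, (i < a ∨ b < i) → IsZero (K.X i) := by
  constructor
  · rintro ⟨a, b, ha, hb⟩
    refine ⟨a, b, fun i hi => ?_⟩
    rcases hi with hi | hi
    · exact K.isZero_of_isStrictlyGE a i hi
    · exact K.isZero_of_isStrictlyLE b i hi
  · rintro ⟨a, b, h⟩
    exact ⟨a, b, (K.isStrictlyGE_iff a).2 fun i hi => h i (Or.inl hi),
      (K.isStrictlyLE_iff b).2 fun i hi => h i (Or.inr hi)⟩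

lemma bdd_of_zero {K L : CochainComplex D ℤ} (hK : Bdd K) (h : ∀ i, IsZero (K.X i) → IsZero (L.X i)) : Bdd L := by
  rw [bdd_iff] at hK ⊢
  obtain ⟨a, b, hab⟩ := hK
  exact ⟨a, b, fun i hi => h i (hab i hi)⟩

lemma bdd_biprod {K L : CochainComplex D ℤ} (hK : Bdd K) (hL : Bdd L) : Bdd (K ⊞ L) := by
  rw [bdd_iff] at hK hL ⊢
  obtain ⟨a, b, hab⟩ := hK
  obtain ⟨a', b', hab'⟩ := hL
  refine ⟨min a a', max b b', fun i hi => ?_⟩
  have h1 : IsZero (K.X i) := hab i (by omega)
  have h2 : IsZero (L.X i) := hab' i (by omega)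
  rw [IsZero.iff_id_eq_zero]
  have h3 : (𝟙 ((K ⊞ L).X i)) = ((𝟙 (K ⊞ L) : K ⊞ L ⟶ K ⊞ L)).f i := rfl
  rw [h3, ← biprod.total]
  simp only [HomologicalComplex.add_f_apply, HomologicalComplex.comp_f]
  rw [h1.eq_of_tgt ((biprod.fst : K ⊞ L ⟶ K).f i) 0, h2.eq_of_tgt ((biprod.snd : K ⊞ L ⟶ L).f i) 0]
  simp

lemma bdd_map (F : D ⥤ E) [F.Additive] {K : CochainComplex D ℤ} (hK : Bdd K) :
    Bdd ((F.mapHomologicalComplex (ComplexShape.up ℤ)).obj K) := by
  rw [bdd_iff] at hK ⊢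
  obtain ⟨a, b, hab⟩ := hK
  exact ⟨a, b, fun i hi => F.map_isZero (hab i hi)⟩

/-- the acyclic complex mapping onto `L` -/
noncomputable abbrev P (L : CochainComplex D ℤ) : CochainComplex D ℤ := mappingCocone (𝟙 L)

noncomputable def hP (L : CochainComplex D ℤ) : Homotopy (𝟙 (P L)) 0 :=
  ((Homotopy.ofEq ((CategoryTheory.shiftFunctor (CochainComplex D ℤ) (-1 : ℤ)).map_id
        (CochainComplex.mappingCone (𝟙 L))).symm).trans
      ((CochainComplex.mappingCone.homotopyToZeroOfId L).shift (-1))).trans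
        (Homotopy.ofEq ((CategoryTheory.shiftFunctor (CochainComplex D ℤ) (-1 : ℤ)).map_zero _ _))

lemma homology_P (F : D ⥤ E) [F.Additive] (L : CochainComplex D ℤ) (i : ℤ) :
    IsZero (((F.mapHomologicalComplex (ComplexShape.up ℤ)).obj (P L)).homology i) := by
  rw [IsZero.iff_id_eq_zero]
  have h := (F.mapHomotopy (hP L)).homologyMap_eq i
  rw [CategoryTheory.Functor.map_id, CategoryTheory.Functor.map_zero, homologyMap_id, homologyMap_zero] at h
  exact h

instance epi_fst (L : CochainComplex D ℤ) : Epi (mappingCocone.fst (𝟙 L)) := by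
  have : ∀ i, Epi ((mappingCocone.fst (𝟙 L)).f i) := fun i =>
    have : IsSplitEpi ((mappingCocone.fst (𝟙 L)).f i) :=
      ⟨⟨⟨(mappingCocone.inl (𝟙 L)).v i i (add_zero i), mappingCocone.inl_v_fst_f (𝟙 L) i⟩⟩⟩
    inferInstance
  exact HomologicalComplex.epi_of_epi_f (mappingCocone.fst (𝟙 L)) this

lemma bdd_P {L : CochainComplex D ℤ} (hL : Bdd L) : Bdd (P L) := by
  rw [bdd_iff] at hL ⊢
  obtain ⟨a, b, hab⟩ := hL
  refine ⟨a, b + 1, fun i hi => ?_⟩
  rw [IsZero.iff_id_eq_zero, ← mappingCocone.id_X (𝟙 L) i (i - 1) (by omega)]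
  have h1 : IsZero (L.X i) := hab i (by omega)
  have h2 : IsZero (L.X (i - 1)) := hab (i - 1) (by omega)
  rw [h1.eq_of_tgt ((mappingCocone.fst (𝟙 L)).f i) 0,
    h2.eq_of_tgt ((mappingCocone.snd (𝟙 L)).v i (i - 1) (by omega)) 0]
  simp

variable (F : D ⥤ E) [F.Additive] [F.PreservesHomology]

/-- homology commutes with an exact functor -/
noncomputable def hIso (K : CochainComplex D ℤ) (i : ℤ) :
    ((F.mapHomologicalComplex (ComplexShape.up ℤ)).obj K).homology i ≅ F.obj (K.homology i) :=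
  (K.sc i).mapHomologyIso F

lemma hIso_nat {K L : CochainComplex D ℤ} (f : K ⟶ L) (i : ℤ) :
    homologyMap ((F.mapHomologicalComplex (ComplexShape.up ℤ)).map f) i ≫ (hIso F L i).hom =
      (hIso F K i).hom ≫ F.map (homologyMap f i) :=
  ShortComplex.mapHomologyIso_hom_naturality ((HomologicalComplex.shortComplexFunctor D _ i).map f) F

lemma hmap_eq {K L : CochainComplex D ℤ} (f : K ⟶ L) (i : ℤ) :
    homologyMap ((F.mapHomologicalComplex (ComplexShape.up ℤ)).map f) i =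
      (hIso F K i).hom ≫ F.map (homologyMap f i) ≫ (hIso F L i).inv := by
  rw [← Category.assoc, ← hIso_nat, Category.assoc, Iso.hom_inv_id, Category.comp_id]

lemma hmap_mono [F.PreservesMonomorphisms] {K L : CochainComplex D ℤ} (f : K ⟶ L) (i : ℤ)
    [Mono (homologyMap f i)] :
    Mono (homologyMap ((F.mapHomologicalComplex (ComplexShape.up ℤ)).map f) i) := by
  rw [hmap_eq]
  infer_instance

lemma hmap_epi [F.PreservesEpimorphisms] {K L : CochainComplex D ℤ} (f : K ⟶ L) (i : ℤ)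
    [Epi (homologyMap f i)] :
    Epi (homologyMap ((F.mapHomologicalComplex (ComplexShape.up ℤ)).map f) i) := by
  rw [hmap_eq]
  infer_instance

lemma isZero_homology_map {K : CochainComplex D ℤ} (i : ℤ) (h : IsZero (K.homology i)) :
    IsZero (((F.mapHomologicalComplex (ComplexShape.up ℤ)).obj K).homology i) :=
  (F.map_isZero h).of_iso (hIso F K i)

end general

section

variable {C : Type v} [Category.{w} C] [Abelian C] {A : Type u} [CommRing A] (X : Chart A C)

instance : PreservesColimitsOfSize.{0, 0} X.us := X.adj.leftAdjoint_preservesColimits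
instance : PreservesLimitsOfSize.{0, 0} X.ul := X.adj.rightAdjoint_preservesLimits

instance us_ph : X.us.PreservesHomology := inferInstance
instance ul_ph : X.ul.PreservesHomology := inferInstance

/-- unit on complexes -/
noncomputable def eta (T : CochainComplex C ℤ) : T ⟶ X.ulC.obj (X.usC.obj T) where
  f i := X.adj.unit.app (T.X i)
  comm' i j _ := (X.adj.unit.naturality (T.d i j)).symm

/-- counit on complexes -/
noncomputable def eps (N : CM A) : X.usC.obj (X.ulC.obj N) ⟶ N where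
  f i := X.adj.counit.app (N.X i)
  comm' i j _ := (X.adj.counit.naturality (N.d i j)).symm

lemma eta_nat {T T' : CochainComplex C ℤ} (f : T ⟶ T') :
    f ≫ eta X T' = eta X T ≫ X.ulC.map (X.usC.map f) := by
  ext i
  exact X.adj.unit.naturality (f.f i)

lemma eps_nat {N N' : CM A} (f : N ⟶ N') :
    X.usC.map (X.ulC.map f) ≫ eps X N' = eps X N ≫ f := by
  ext1 i
  exact X.adj.counit.naturality (f.f i)

lemma tri_left (T : CochainComplex C ℤ) : X.usC.map (eta X T) ≫ eps X (X.usC.obj T) = 𝟙 _ := by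
  ext1 i
  exact X.adj.left_triangle_components (T.X i)

lemma tri_right (N : CM A) : eta X (X.ulC.obj N) ≫ X.ulC.map (eps X N) = 𝟙 _ := by
  ext i
  exact X.adj.right_triangle_components (N.X i)

/-- bijective on `H^i` for `i < m`, injective on `H^i` for `i ≤ m` -/
def Good (m : ℤ) {K L : CM A} (l : K ⟶ L) : Prop :=
  (∀ i < m, IsIso (homologyMap l i)) ∧ ∀ i ≤ m, Mono (homologyMap l i)

/-- `H^i(us -)` -/
noncomputable abbrev G (i : ℤ) : CochainComplex C ℤ ⥤ ModuleCat.{u} A := X.usC ⋙ homologyFunctor _ _ i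

instance (i : ℤ) : (G X i).Additive := inferInstance

section step

variable {X}
variable {Q : CM A} {Z Z' : CochainComplex C ℤ} (l : Q ⟶ X.usC.obj Z)
  {P' : CochainComplex C ℤ} (π : P' ⟶ X.ulC.obj (X.usC.obj Z))

/-- the map whose kernel is the fibre product -/
noncomputable def gmap : Z ⊞ (X.ulC.obj Q ⊞ P') ⟶ X.ulC.obj (X.usC.obj Z) :=
  biprod.desc (eta X Z) (biprod.desc (-(X.ulC.map l)) π)

instance gmap_epi [Epi π] : Epi (gmap l π) := by
  have h : ((biprod.inr ≫ biprod.inr : P' ⟶ Z ⊞ (X.ulC.obj Q ⊞ P')) ≫ gmap l π) = π := by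
    rw [gmap, Category.assoc, biprod.inr_desc, biprod.inr_desc]
  exact epi_of_epi_fac h

variable (ι : Z' ⟶ Z ⊞ (X.ulC.obj Q ⊞ P')) (w : ι ≫ gmap l π = 0)

include w in
lemma rel : (ι ≫ biprod.fst) ≫ eta X Z + (ι ≫ biprod.snd ≫ biprod.snd) ≫ π =
    (ι ≫ biprod.snd ≫ biprod.fst) ≫ X.ulC.map l := by
  have h : gmap l π = biprod.fst ≫ eta X Z + (biprod.snd ≫ biprod.snd) ≫ π -
      (biprod.snd ≫ biprod.fst) ≫ X.ulC.map l := by
    refine biprod.hom_ext' _ _ ?_ (biprod.hom_ext' _ _ ?_ ?_)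
    · simp [gmap]
    · simp [gmap]
    · simp [gmap]
  rw [h, Preadditive.comp_sub, Preadditive.comp_add, sub_eq_zero] at w
  simpa only [Category.assoc] using w

/-- the diagram chase -/
lemma chase {E : Type*} [Category* E] [Preadditive E] {a b c d e : E} (p : a ⟶ b) (qv : a ⟶ c) (η : b ⟶ d) (vl : c ⟶ d)
    (εZ : d ⟶ b) (εQ : c ⟶ e) (l : e ⟶ b) (h1 : p ≫ η = qv ≫ vl) (h2 : η ≫ εZ = 𝟙 b) (h3 : vl ≫ εZ = εQ ≫ l)
    [Mono vl] {W : E} (z : W ⟶ a) (hz : z ≫ qv ≫ εQ = 0) : z ≫ p = 0 ∧ z ≫ qv = 0 := by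
  have h4 : z ≫ p = 0 := by
    calc z ≫ p = z ≫ (p ≫ η) ≫ εZ := by rw [Category.assoc, h2, Category.comp_id]
      _ = (z ≫ qv ≫ εQ) ≫ l := by rw [h1, Category.assoc, h3]; simp only [Category.assoc]
      _ = 0 := by rw [hz, zero_comp]
  refine ⟨h4, ?_⟩
  rw [← cancel_mono vl, zero_comp, Category.assoc, ← h1, ← Category.assoc, h4, zero_comp]

variable (hS : (ShortComplex.mk ι (gmap l π) w).ShortExact)
  (hP' : ∀ i, IsZero ((X.usC.obj P').homology i))

include hS hP' in
theorem mono_q {m : ℤ} (hl : Good m l) (i : ℤ) (hi : i ≤ m) :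
    Mono (homologyMap (X.usC.map (ι ≫ biprod.snd ≫ biprod.fst) ≫ eps X Q) i) := by
  have hS' := hS.map_of_exact X.usC
  have hvl : Mono ((G X i).map (X.ulC.map l)) := by
    have := hl.2 i hi
    have := hmap_mono X.ul l i
    exact hmap_mono X.us (X.ulC.map l) i
  have hvl' : Epi ((G X (i - 1)).map (X.ulC.map l)) := by
    have := hl.1 (i - 1) (by omega)
    have := hmap_epi X.ul l (i - 1)
    exact hmap_epi X.us (X.ulC.map l) (i - 1)
  have hg : Epi ((G X (i - 1)).map (gmap l π)) := by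
    have h1 : (-(biprod.inl ≫ biprod.inr : X.ulC.obj Q ⟶ Z ⊞ (X.ulC.obj Q ⊞ P'))) ≫ gmap l π = X.ulC.map l := by
      rw [gmap, Preadditive.neg_comp, Category.assoc, biprod.inr_desc, biprod.inl_desc, neg_neg]
    exact epi_of_epi_fac (((G X (i - 1)).map_comp _ _).symm.trans (congrArg (G X (i - 1)).map h1))
  have hδ : hS'.δ (i - 1) i (by simp) = 0 := by
    have h1 := hS'.comp_δ (i - 1) i (by simp)
    exact (cancel_epi ((G X (i - 1)).map (gmap l π))).1 (h1.trans comp_zero.symm)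
  have hι : Mono ((G X i).map ι) := (hS'.homology_exact₁ (i - 1) i (by simp)).mono_g hδ
  refine Preadditive.mono_of_cancel_zero _ fun {W} z hz => ?_
  let p := ι ≫ biprod.fst
  let qv := ι ≫ biprod.snd ≫ biprod.fst
  let r := ι ≫ biprod.snd ≫ biprod.snd
  have hr : (G X i).map r = 0 := (hP' i).eq_of_tgt _ _
  have e1 : (G X i).map p ≫ (G X i).map (eta X Z) = (G X i).map qv ≫ (G X i).map (X.ulC.map l) := by
    have h := congrArg (G X i).map (rel l π ι w)
    rw [Functor.map_add, Functor.map_comp, Functor.map_comp _ (ι ≫ biprod.snd ≫ biprod.snd) π,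
      Functor.map_comp _ (ι ≫ biprod.snd ≫ biprod.fst)] at h
    rw [← h]
    change _ = _ + (G X i).map r ≫ _
    rw [hr, zero_comp, add_zero]
  have e2 : (G X i).map (eta X Z) ≫ homologyMap (eps X (X.usC.obj Z)) i = 𝟙 _ := by
    change homologyMap _ i ≫ homologyMap _ i = _
    rw [← homologyMap_comp, tri_left, homologyMap_id]
    rfl
  have e3 : (G X i).map (X.ulC.map l) ≫ homologyMap (eps X (X.usC.obj Z)) i =
      homologyMap (eps X Q) i ≫ homologyMap l i := by
    change homologyMap _ i ≫ homologyMap _ i = _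
    rw [← homologyMap_comp, eps_nat, homologyMap_comp]
  have hz' : z ≫ (G X i).map qv ≫ homologyMap (eps X Q) i = 0 := by
    rw [homologyMap_comp] at hz
    exact hz
  obtain ⟨h2, h3⟩ := chase ((G X i).map p) ((G X i).map qv) ((G X i).map (eta X Z)) ((G X i).map (X.ulC.map l))
    (homologyMap (eps X (X.usC.obj Z)) i) (homologyMap (eps X Q) i) (homologyMap l i) e1 e2 e3 z hz'
  have h4 : (z ≫ (G X i).map ι : W ⟶ (G X i).obj _) = 0 := by
    have hid : ι = p ≫ biprod.inl + (qv ≫ biprod.inl + r ≫ biprod.inr) ≫ biprod.inr := by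
      refine biprod.hom_ext _ _ ?_ (biprod.hom_ext _ _ ?_ ?_)
      · simp [p]
      · simp [qv]
      · simp [r]
    have e4 : (G X i).map ι = (G X i).map p ≫ (G X i).map biprod.inl +
        ((G X i).map qv ≫ (G X i).map biprod.inl + (G X i).map r ≫ (G X i).map biprod.inr) ≫ (G X i).map biprod.inr := by
      rw [← Functor.map_comp, ← Functor.map_comp, ← Functor.map_comp, ← Functor.map_add, ← Functor.map_comp,
        ← Functor.map_add, ← hid]
    rw [e4, hr, zero_comp, add_zero, Preadditive.comp_add, ← Category.assoc z, ← Category.assoc z,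
      ← Category.assoc z, h2, h3, zero_comp, zero_comp, zero_comp, add_zero]
  exact (cancel_mono ((G X i).map ι)).1 (h4.trans zero_comp.symm)

end step

variable {X}

lemma good_of_comp {m : ℤ} {K L : CM A} (l : K ⟶ L) (q : L ⟶ K) (h1 : ∀ i, homologyMap (l ≫ q) i = 𝟙 _)
    (h2 : ∀ i ≤ m, Mono (homologyMap q i)) : Good (m + 1) l := by
  refine ⟨fun i hi => ?_, fun i _ => ?_⟩
  · have h := h1 i
    rw [homologyMap_comp] at h
    have := h2 i (by omega)
    refine ⟨homologyMap q i, h, ?_⟩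
    rw [← cancel_mono (homologyMap q i), Category.assoc, h, Category.comp_id, Category.id_comp]
  · have h := h1 i
    rw [homologyMap_comp] at h
    exact mono_of_mono_fac h

section tower

variable {h : CochainComplex C ℤ ⥤ AddCommGrpCat.{t}} (hh : Coh h) {Q : CM A} (hQ : Bdd Q)
  {q : h.obj (X.ulC.obj Q)} (hr : RepOn X h Q q)

lemma hcomp {K L M : CochainComplex C ℤ} (f : K ⟶ L) (g : L ⟶ M) (x : h.obj K) :
    (h.map (f ≫ g)).hom x = (h.map g).hom ((h.map f).hom x) := by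
  rw [Functor.map_comp]
  rfl

include hh hQ hr in
theorem step {Z : CochainComplex C ℤ} (hZ : Bdd Z) (z : h.obj Z) (l : Q ⟶ X.usC.obj Z)
    (hl : (h.map (X.ulC.map l)).hom q = (h.map (eta X Z)).hom z) {m : ℤ} (hg : Good m l) :
    ∃ (Z' : CochainComplex C ℤ) (p : Z' ⟶ Z) (z' : h.obj Z') (l' : Q ⟶ X.usC.obj Z'), Bdd Z' ∧
      (h.map p).hom z' = z ∧ (h.map (X.ulC.map l')).hom q = (h.map (eta X Z')).hom z' ∧ Good (m + 1) l' := by
  have := hh.additive
  let V := X.ulC.obj (X.usC.obj Z)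
  let π : P V ⟶ V := mappingCocone.fst (𝟙 V)
  let g := gmap (X := X) l π
  have hV : Bdd V := bdd_map X.ul (bdd_map X.us hZ)
  let ι := kernel.ι g
  have hS : (ShortComplex.mk ι g (kernel.condition g)).ShortExact :=
    { exact := ShortComplex.exact_of_f_is_kernel _ (kernelIsKernel g) }
  have hM : Bdd (Z ⊞ (X.ulC.obj Q ⊞ P V)) := bdd_biprod hZ (bdd_biprod (bdd_map X.ul hQ) (bdd_P hV))
  have hZ' : Bdd (kernel g) := bdd_of_zero hM fun i hi => by
    have : Mono (ι.f i) := inferInstance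
    exact hi.of_mono (ι.f i)
  have hP' : ∀ i, IsZero ((X.usC.obj (P V)).homology i) := fun i => homology_P X.us V i
  let x : h.obj (Z ⊞ (X.ulC.obj Q ⊞ P V)) := (h.map biprod.inl).hom z + (h.map (biprod.inl ≫ biprod.inr)).hom q
  have hx : (h.map g).hom x = 0 := by
    rw [map_add, ← hcomp, ← hcomp]
    have e1 : (biprod.inl : Z ⟶ Z ⊞ (X.ulC.obj Q ⊞ P V)) ≫ g = eta X Z := by simp [g, gmap]
    have e2 : (biprod.inl ≫ biprod.inr : X.ulC.obj Q ⟶ Z ⊞ (X.ulC.obj Q ⊞ P V)) ≫ g = -(X.ulC.map l) := by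
      simp [g, gmap]
    rw [e1, e2, Functor.map_neg]
    change (h.map (eta X Z)).hom z + -((h.map (X.ulC.map l)).hom q) = 0
    rw [hl, add_neg_cancel]
  obtain ⟨z', hz'⟩ := hh.exact _ hS hZ' hM hV x hx
  change (h.map ι).hom z' = x at hz'
  obtain ⟨l', hl'⟩ := hr.ex (X.usC.obj (kernel g)) (bdd_map X.us hZ') ((h.map (eta X (kernel g))).hom z')
  have hp : (h.map (ι ≫ biprod.fst)).hom z' = z := by
    rw [hcomp, hz', map_add, ← hcomp, ← hcomp]
    have e1 : (biprod.inl : Z ⟶ Z ⊞ (X.ulC.obj Q ⊞ P V)) ≫ biprod.fst = 𝟙 _ := by simp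
    have e2 : (biprod.inl ≫ biprod.inr : X.ulC.obj Q ⟶ Z ⊞ (X.ulC.obj Q ⊞ P V)) ≫ biprod.fst = 0 := by simp
    rw [e1, e2, CategoryTheory.Functor.map_id, CategoryTheory.Functor.map_zero]
    change z + 0 = z
    rw [add_zero]
  have hqv : (h.map (ι ≫ biprod.snd ≫ biprod.fst)).hom z' = q := by
    rw [hcomp, hz', map_add, ← hcomp, ← hcomp]
    have e1 : (biprod.inl : Z ⟶ Z ⊞ (X.ulC.obj Q ⊞ P V)) ≫ biprod.snd ≫ biprod.fst = 0 := by simp
    have e2 : (biprod.inl ≫ biprod.inr : X.ulC.obj Q ⟶ Z ⊞ (X.ulC.obj Q ⊞ P V)) ≫ biprod.snd ≫ biprod.fst = 𝟙 _ := by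
      simp
    rw [e1, e2, CategoryTheory.Functor.map_id, CategoryTheory.Functor.map_zero]
    change 0 + q = q
    rw [zero_add]
  refine ⟨kernel g, ι ≫ biprod.fst, z', l', hZ', hp, hl', ?_⟩
  refine good_of_comp l' (X.usC.map (ι ≫ biprod.snd ≫ biprod.fst) ≫ eps X Q) (fun i => ?_)
    (fun i hi => mono_q l π ι (kernel.condition g) hS hP' hg i hi)
  rw [hr.uniq Q hQ _ (𝟙 Q) ?_ i, homologyMap_id]
  have key : eta X (kernel g) ≫ X.ulC.map (X.usC.map (ι ≫ biprod.snd ≫ biprod.fst) ≫ eps X Q) =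
      ι ≫ biprod.snd ≫ biprod.fst := by
    rw [(X.ulC).map_comp, ← Category.assoc, ← eta_nat, Category.assoc, tri_right, Category.comp_id]
  rw [CategoryTheory.Functor.map_id, CategoryTheory.Functor.map_id, (X.ulC).map_comp, hcomp, hl', ← hcomp, key, hqv]
  rfl

lemma good_start {K L : CM A} (hK : Bdd K) (hL : Bdd L) (l : K ⟶ L) : ∃ m : ℤ, Good m l := by
  rw [bdd_iff] at hK hL
  obtain ⟨a, b, hab⟩ := hK
  obtain ⟨a', b', hab'⟩ := hL
  refine ⟨min a a' - 1, ?_⟩
  have hz : ∀ (M : CM A) (i : ℤ), IsZero (M.X i) → IsZero (M.homology i) := fun M i h =>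
    (ShortComplex.exact_iff_isZero_homology _).1 (ShortComplex.exact_of_isZero_X₂ _ h)
  have h1 : ∀ i ≤ min a a' - 1, IsZero (K.homology i) ∧ IsZero (L.homology i) := fun i hi =>
    ⟨hz K i (hab i (by omega)), hz L i (hab' i (by omega))⟩
  refine ⟨fun i hi => ?_, fun i hi => ?_⟩
  · obtain ⟨h2, h3⟩ := h1 i (by omega)
    exact ⟨0, h2.eq_of_src _ _, h3.eq_of_src _ _⟩
  · obtain ⟨h2, h3⟩ := h1 i (by omega)
    exact ⟨fun _ _ _ => h2.eq_of_tgt _ _⟩

include hh hQ hr in
theorem iter {Y : CochainComplex C ℤ} (hY : Bdd Y) (y : h.obj Y) (N : ℤ) :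
    ∃ (Z : CochainComplex C ℤ) (p : Z ⟶ Y) (z : h.obj Z) (l : Q ⟶ X.usC.obj Z), Bdd Z ∧
      (h.map p).hom z = y ∧ (h.map (X.ulC.map l)).hom q = (h.map (eta X Z)).hom z ∧ Good N l := by
  obtain ⟨l₀, hl₀⟩ := hr.ex (X.usC.obj Y) (bdd_map X.us hY) ((h.map (eta X Y)).hom y)
  obtain ⟨m, hm⟩ := good_start hQ (bdd_map X.us hY) l₀
  have key : ∀ n : ℕ, ∃ (Z : CochainComplex C ℤ) (p : Z ⟶ Y) (z : h.obj Z) (l : Q ⟶ X.usC.obj Z), Bdd Z ∧
      (h.map p).hom z = y ∧ (h.map (X.ulC.map l)).hom q = (h.map (eta X Z)).hom z ∧ Good (m + n) l := by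
    intro n
    induction n with
    | zero =>
      refine ⟨Y, 𝟙 Y, y, l₀, hY, ?_, hl₀, ?_⟩
      · rw [CategoryTheory.Functor.map_id]
        rfl
      · simpa using hm
    | succ n ih =>
      obtain ⟨Z, p, z, l, hZ, hp, hl, hg⟩ := ih
      obtain ⟨Z', p', z', l', hZ', hp', hl', hg'⟩ := step hh hQ hr hZ z l hl hg
      refine ⟨Z', p' ≫ p, z', l', hZ', ?_, hl', ?_⟩
      · rw [hcomp, hp', hp]
      · rw [show m + ((n + 1 : ℕ) : ℤ) = m + n + 1 by push_cast; ring]
        exact hg'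
  obtain ⟨Z, p, z, l, hZ, hp, hl, hg⟩ := key (N - m).toNat
  refine ⟨Z, p, z, l, hZ, hp, hl, fun i hi => hg.1 i (by omega), fun i hi => hg.2 i (by omega)⟩

end tower

variable (X) in
/-- **REP LEMMA** -/
theorem repLemma : RepLemma.{t} X := by
  intro h hh Q hQ q hr Y hY y
  obtain ⟨N, hN⟩ := hh.vanish
  obtain ⟨a, b, hab⟩ := (bdd_iff Q).1 hQ
  let c : ℤ := max b N
  obtain ⟨Z, p, z, l, hZ, hp, hl, hg⟩ := iter hh hQ hr hY y (c + 1)
  have hS := Z.shortComplexTruncLE_shortExact c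
  have hT : Bdd (Z.truncLE c) := bdd_of_zero hZ fun i hi => by
    have := hS.mono_f
    have h1 : Mono ((Z.ιTruncLE c).f i) := by
      have : Mono (Z.ιTruncLE c) := hS.mono_f
      infer_instance
    exact hi.of_mono ((Z.ιTruncLE c).f i)
  have hW : Bdd (Z.shortComplexTruncLE c).X₃ := bdd_of_zero hZ fun i hi => by
    have := hS.epi_g
    exact hi.of_epi ((Z.shortComplexTruncLE c).g.f i)
  have hf1 : ∀ i ≤ c, IsIso (homologyMap (Z.shortComplexTruncLE c).f i) := fun i hi =>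
    (quasiIsoAt_iff_isIso_homologyMap _ _).1 (Z.quasiIsoAt_ιTruncLE c i hi)
  have hf2 : ∀ i, Mono (homologyMap (Z.shortComplexTruncLE c).f i) := by
    intro i
    by_cases hi : i ≤ c
    · have := hf1 i hi
      infer_instance
    · have h0 : IsZero ((Z.truncLE c).homology i) := (Z.truncLE c).isZero_of_isLE c i (by omega)
      exact ⟨fun _ _ _ => h0.eq_of_tgt _ _⟩
  have hWx : ∀ i ≤ N, (Z.shortComplexTruncLE c).X₃.ExactAt i := by
    intro i hi
    have := hf1 i (by omega)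
    have := hf2 (i + 1)
    rw [exactAt_iff_isZero_homology]
    have e1 : homologyMap (Z.shortComplexTruncLE c).g i = 0 := by
      rw [← cancel_epi (homologyMap (Z.shortComplexTruncLE c).f i), ← homologyMap_comp,
        (Z.shortComplexTruncLE c).zero, homologyMap_zero, comp_zero]
    have e2 : hS.δ i (i + 1) (by simp) = 0 := by
      rw [← cancel_mono (homologyMap (Z.shortComplexTruncLE c).f (i + 1)), hS.δ_comp, zero_comp]
    exact (hS.homology_exact₃ i (i + 1) (by simp)).isZero_X₂ e1 e2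
  obtain ⟨s, hs⟩ := hh.exact _ hS hT hZ hW z (hN _ hW hWx _)
  change (h.map (Z.ιTruncLE c)).hom s = z at hs
  obtain ⟨l', hl'⟩ := hr.ex (X.usC.obj (Z.truncLE c)) (bdd_map X.us hT) ((h.map (eta X (Z.truncLE c))).hom s)
  refine ⟨Z.truncLE c, Z.ιTruncLE c ≫ p, s, hT, by rw [hcomp, hs, hp], l', ⟨fun i => ?_⟩⟩
  rw [quasiIsoAt_iff_isIso_homologyMap]
  by_cases hi : i ≤ c
  · have e1 : homologyMap (l' ≫ X.usC.map (Z.ιTruncLE c)) i = homologyMap l i := by
      refine hr.uniq (X.usC.obj Z) (bdd_map X.us hZ) _ _ ?_ i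
      rw [hl, (X.ulC).map_comp, hcomp, hl', ← hcomp, ← eta_nat, hcomp, hs]
    have h2 : IsIso (homologyMap (X.usC.map (Z.ιTruncLE c)) i) := by
      have : IsIso (homologyMap (Z.ιTruncLE c) i) := hf1 i hi
      rw [hmap_eq]
      infer_instance
    have h3 : IsIso (homologyMap l i) := hg.1 i (by omega)
    rw [homologyMap_comp] at e1
    have h4 : IsIso (homologyMap l' i ≫ homologyMap (X.usC.map (Z.ιTruncLE c)) i) := by
      rw [e1]
      exact h3
    exact IsIso.of_isIso_comp_right _ (homologyMap (X.usC.map (Z.ιTruncLE c)) i)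
  · have h1 : IsZero (Q.homology i) :=
      (ShortComplex.exact_iff_isZero_homology _).1 (ShortComplex.exact_of_isZero_X₂ _ (hab i (by omega)))
    have h2 : IsZero ((X.usC.obj (Z.truncLE c)).homology i) :=
      isZero_homology_map X.us i ((Z.truncLE c).isZero_of_isLE c i (by omega))
    exact ⟨0, h1.eq_of_src _ _, h2.eq_of_src _ _⟩

end

end Groth.Agent.ResProp.EF.K475
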